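import Cfsg.Agent.Spor.S85.L.D0

set_option autoImplicit false
set_option maxRecDepth 100000000
set_option Elab.async false

namespace Cfsg.Agent.Spor.S85.L

theorem uok6 : Net.okb 7 un6 = true := by decide +kernel

theorem rel3 : U.rel 7 [13, 3, 1, 3, 1, 3, 1, 3, 1, 3, 1] 0 7 = true := by decide +kernel

theorem uok7 : Net.okb 7 un7 = true := by decide +kernel

theorem rel4 : U.rel 7 [15, 7, 3, 1, 3, 7, 1, 3, 1, 3, 7, 1, 3, 1, 3, 1] 0 7 = true := by decide +kernel

theorem rel5 : U.rel 7 [14, 1, 13, 1] 0 7 = true := by decide +kernel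

theorem rel6 : U.rel 7 [16, 1, 15, 1] 0 7 = true := by decide +kernel

theorem rel7 : U.rel 7 [14, 3, 13, 3] 0 7 = true := by decide +kernel

theorem rel8 : U.rel 7 [16, 3, 15, 3] 0 7 = true := by decide +kernel

theorem rel9 : U.rel 7 [14, 5, 13, 5] 0 7 = true := by decide +kernel

theorem rel10 : U.rel 7 [16, 5, 15, 5] 0 7 = true := by decide +kernel

theorem rel11 : U.rel 7 [14, 7, 13, 7] 0 7 = true := by decide +kernel

theorem rel12 : U.rel 7 [16, 7, 15, 7] 0 7 = true := by decide +kernel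

theorem rel13 : U.rel 7 [16, 14, 12, 13, 11] 0 7 = true := by decide +kernel

theorem rel14 : U.rel 7 [14, 12, 15, 11] 0 7 = true := by decide +kernel

theorem rel15 : U.rel 7 [16, 14, 15, 13] 0 7 = true := by decide +kernel

theorem uok8 : Net.okb 7 un8 = true := by decide +kernel

theorem rel16 : U.rel 7 [17, 3, 7, 5, 3, 5, 1, 7, 9, 7, 5, 7, 9] 0 7 = true := by decide +kernel

theorem uok9 : Net.okb 7 un9 = true := by decide +kernel

theorem rel17 : U.rel 7 [19, 5, 7, 3, 7, 5, 1, 9, 3, 1, 7, 9, 1, 7, 5, 7, 1, 9, 3, 5, 9, 7, 9, 1, 5, 3, 9, 9, 1, 7, 9, 1, 3, 7, 3, 1, 5, 3, 7, 9] 0 7 = true := by decide +kernel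

theorem gr19 : sub M18 (U.growI W1 [4, 4, 3, 1, 0, 1, 2, 3, 4, 4, 3, 1, 0, 1, 3] (Nat.shiftLeft 1 0)) = true := by decide +kernel

theorem cl21 : band (U.closedW W1 M18) (sub (Nat.shiftLeft 1 0) M18) = true := by decide +kernel

theorem sz22 : sizeOk 7 M18 85 = true := by decide +kernel

theorem fx25 : U.closedW W24 (Nat.shiftLeft 1 0) = true := by decide +kernel

theorem uok10 : Net.okb 7 un10 = true := by decide +kernel

theorem rel26 : U.rel 7 [21, 17, 19, 17, 17, 17, 19, 17, 17, 19] 0 7 = true := by decide +kernel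

theorem uok11 : Net.okb 7 un11 = true := by decide +kernel

theorem rel27 : U.rel 7 [23, 19, 17, 17, 17, 17, 19, 19, 17, 19] 0 7 = true := by decide +kernel

theorem gr29 : sub M28 (U.growI W24 [0, 1, 1, 0, 0, 1, 1, 0, 0, 1, 1] (Nat.shiftLeft 1 1)) = true := by decide +kernel

theorem cl31 : band (U.closedW W24 M28) (sub (Nat.shiftLeft 1 1) M28) = true := by decide +kernel

theorem sz32 : sizeOk 7 M28 64 = true := by decide +kernel

theorem fx35 : U.closedW W34 (Nat.shiftLeft 1 1) = true := by decide +kernel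

theorem uok12 : Net.okb 7 un12 = true := by decide +kernel

theorem rel36 : U.rel 7 [25, 21, 23, 21, 21, 23, 23, 23, 21, 23, 21, 21, 21, 23, 21, 23, 21, 21, 23, 23, 23, 23, 21, 23, 23, 23, 21, 23] 0 7 = true := by decide +kernel

theorem uok13 : Net.okb 7 un13 = true := by decide +kernel

theorem rel37 : U.rel 7 [27, 23, 23, 23, 23, 21, 21, 21, 21, 21, 21, 21, 21, 23, 23, 23, 21, 21, 21, 21, 23, 21, 23, 21, 21, 23, 23, 21, 21, 23, 23, 21, 21, 23, 21, 23] 0 7 = true := by decide +kernel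

theorem gr39 : sub M38 (U.growI W34 [0, 1, 1, 0, 0, 1, 1, 0, 0, 1] (Nat.shiftLeft 1 4)) = true := by decide +kernel

theorem cl41 : band (U.closedW W34 M38) (sub (Nat.shiftLeft 1 4) M38) = true := by decide +kernel

theorem sz42 : sizeOk 7 M38 45 = true := by decide +kernel

theorem fx45 : U.closedW W44 (Nat.shiftLeft 1 4) = true := by decide +kernel

theorem gr46 : sub 0x81120 (U.growI W44 [0, 1] (Nat.shiftLeft 1 5)) = true := by decide +kernel

theorem cl48 : band (U.closedW W44 0x81120) (sub (Nat.shiftLeft 1 5) 0x81120) = true := by decide +kernel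

theorem sz49 : sizeOk 7 0x81120 4 = true := by decide +kernel

end Cfsg.Agent.Spor.S85.L
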