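import Cfsg.Agent.Spor.Prim
import Cfsg.Agent.Spor.S85.Main
import Cfsg.Agent.Spor.S85.L.C0
import Cfsg.Agent.Spor.TT2

set_option autoImplicit false
set_option maxRecDepth 100000000
set_option Elab.async false

namespace Cfsg.Agent.Spor.S85.L

theorem hU : U.Ok 7 := U.ok_of 7 (show AllP (fun n => Net.okb 7 n = true) [n0, n1, n2, n3, n4, n5, un6, un7, un8, un9, un10, un11, un12, un13] from AllP.cons ok0 (AllP.cons ok1 (AllP.cons ok2 (AllP.cons ok3 (AllP.cons ok4 (AllP.cons ok5 (AllP.cons uok6 (AllP.cons uok7 (AllP.cons uok8 (AllP.cons uok9 (AllP.cons uok10 (AllP.cons uok11 (AllP.cons uok12 (AllP.cons uok13 (AllP.nil)))))))))))))))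

theorem hfP : ∀ j < 5, U.fP [1, 3, 5, 7, 9] j = fP j := by
  intro j hj
  interval_cases j <;> rfl
theorem eG : gsub 5 fP = U.lsub W1 := (gsub_congr hfP).symm.trans (lsub_eq_gsub U [1, 3, 5, 7, 9])
theorem upz1 : ev (atm 5 fP) [0] = U.τ 1 := pz1
theorem upz3 : ev (atm 5 fP) [2] = U.τ 3 := pz2
theorem upz5 : ev (atm 5 fP) [4] = U.τ 5 := pz3
theorem upz7 : ev (atm 5 fP) [6] = U.τ 7 := pz4
theorem upz9 : ev (atm 5 fP) [8] = U.τ 9 := pz5
theorem upz11 : ev (atm 5 fP) [9, 6, 2, 0, 2, 6, 9, 6, 2, 4, 0, 2, 6, 8] = U.τ 11 := pz7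
theorem eH : wsub 5 fP BW = U.lsub W2 :=
  lsub_eq_of_all₂ (show List.Forall₂ _ [[0], [2], [4], [6], [9, 6, 2, 0, 2, 6, 9, 6, 2, 4, 0, 2, 6, 8]] [[1], [3], [5], [7], [11]] from List.Forall₂.cons (upz1.trans (one_mul _).symm) (List.Forall₂.cons (upz3.trans (one_mul _).symm) (List.Forall₂.cons (upz5.trans (one_mul _).symm) (List.Forall₂.cons (upz7.trans (one_mul _).symm) (List.Forall₂.cons (upz11.trans (one_mul _).symm) (List.Forall₂.nil))))))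
theorem vpz1 : PZ U (atm 5 fP) EXU 1 := pz1
theorem vpz2 : PZ U (atm 5 fP) EXU 2 := PZ.of_inv hiv vpz1 (by decide +kernel)
theorem vpz3 : PZ U (atm 5 fP) EXU 3 := pz2
theorem vpz4 : PZ U (atm 5 fP) EXU 4 := PZ.of_inv hiv vpz3 (by decide +kernel)
theorem vpz5 : PZ U (atm 5 fP) EXU 5 := pz3
theorem vpz6 : PZ U (atm 5 fP) EXU 6 := PZ.of_inv hiv vpz5 (by decide +kernel)
theorem vpz7 : PZ U (atm 5 fP) EXU 7 := pz4
theorem vpz8 : PZ U (atm 5 fP) EXU 8 := PZ.of_inv hiv vpz7 (by decide +kernel)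
theorem vpz9 : PZ U (atm 5 fP) EXU 9 := pz5
theorem vpz10 : PZ U (atm 5 fP) EXU 10 := PZ.of_inv hiv vpz9 (by decide +kernel)
theorem vpz11 : PZ U (atm 5 fP) EXU 11 := pz7
theorem vpz12 : PZ U (atm 5 fP) EXU 12 := PZ.of_inv hiv vpz11 (by decide +kernel)
theorem vpz13 : PZ U (atm 5 fP) EXU 13 := PZ.of_def hiv (d := [3, 1, 3, 1, 3, 1, 3, 1, 3, 1]) (AllP.cons vpz3 (AllP.cons vpz1 (AllP.cons vpz3 (AllP.cons vpz1 (AllP.cons vpz3 (AllP.cons vpz1 (AllP.cons vpz3 (AllP.cons vpz1 (AllP.cons vpz3 (AllP.cons vpz1 (AllP.nil))))))))))) (hU.one rel3) (by decide +kernel)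
theorem vpz14 : PZ U (atm 5 fP) EXU 14 := PZ.of_inv hiv vpz13 (by decide +kernel)
theorem vpz15 : PZ U (atm 5 fP) EXU 15 := PZ.of_def hiv (d := [7, 3, 1, 3, 7, 1, 3, 1, 3, 7, 1, 3, 1, 3, 1]) (AllP.cons vpz7 (AllP.cons vpz3 (AllP.cons vpz1 (AllP.cons vpz3 (AllP.cons vpz7 (AllP.cons vpz1 (AllP.cons vpz3 (AllP.cons vpz1 (AllP.cons vpz3 (AllP.cons vpz7 (AllP.cons vpz1 (AllP.cons vpz3 (AllP.cons vpz1 (AllP.cons vpz3 (AllP.cons vpz1 (AllP.nil)))))))))))))))) (hU.one rel4) (by decide +kernel)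
theorem vpz16 : PZ U (atm 5 fP) EXU 16 := PZ.of_inv hiv vpz15 (by decide +kernel)
theorem hPZU : AllP (PZ U (atm 5 fP) EXU) LU :=
  show AllP (PZ U (atm 5 fP) EXU) [1, 2, 3, 4, 5, 6, 7, 8, 9, 10, 11, 12, 13, 14, 15, 16] from AllP.cons vpz1 (AllP.cons vpz2 (AllP.cons vpz3 (AllP.cons vpz4 (AllP.cons vpz5 (AllP.cons vpz6 (AllP.cons vpz7 (AllP.cons vpz8 (AllP.cons vpz9 (AllP.cons vpz10 (AllP.cons vpz11 (AllP.cons vpz12 (AllP.cons vpz13 (AllP.cons vpz14 (AllP.cons vpz15 (AllP.cons vpz16 (AllP.nil))))))))))))))))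
theorem hXN : ∀ l ∈ XN, ev (atm 5 fP) l = 1 :=
  relAll_sound hiv (W := [[14, 1, 13, 1], [16, 1, 15, 1], [14, 3, 13, 3], [16, 3, 15, 3], [14, 5, 13, 5], [16, 5, 15, 5], [14, 7, 13, 7], [16, 7, 15, 7], [16, 14, 12, 13, 11], [14, 12, 15, 11], [16, 14, 15, 13]]) (rules := [⟨[14, 1, 13, 1], [], 0, true⟩, ⟨[16, 1, 15, 1], [], 1, true⟩, ⟨[14, 3, 13, 3], [], 2, true⟩, ⟨[16, 3, 15, 3], [], 3, true⟩, ⟨[14, 5, 13, 5], [], 4, true⟩, ⟨[16, 5, 15, 5], [], 5, true⟩, ⟨[14, 7, 13, 7], [], 6, true⟩, ⟨[16, 7, 15, 7], [], 7, true⟩, ⟨[16, 14, 12, 13, 11], [], 8, true⟩, ⟨[14, 12, 15, 11], [], 9, true⟩, ⟨[16, 14, 15, 13], [], 10, true⟩]) hPZU (AllP.cons (hU.one rel5) (AllP.cons (hU.one rel6) (AllP.cons (hU.one rel7) (AllP.cons (hU.one rel8) (AllP.cons (hU.one rel9) (AllP.cons (hU.one rel10) (AllP.cons (hU.one rel11) (AllP.cons (hU.one rel12) (AllP.cons (hU.one rel13) (AllP.cons (hU.one rel14) (AllP.cons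 (hU.one rel15) (AllP.nil)))))))))))) (by decide +kernel)
theorem reach20 : Reach (U.lsub W1) 0 M18 := (Reach.grow hU (Reach.base _ 0) gr19)
theorem orb23 : (orbS (U.lsub W1) 0).ncard = 85 := reach20.ncard hU cl21 sz22
theorem orb23e : orbS (U.lsub W1) 0 = {c | Nat.testBit M18 c = true} := reach20.orb hU cl21
theorem reach30 : Reach (U.lsub W24) 1 M28 := (Reach.grow hU (Reach.base _ 1) gr29)
theorem orb33 : (orbS (U.lsub W24) 1).ncard = 64 := reach30.ncard hU cl31 sz32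
theorem orb33e : orbS (U.lsub W24) 1 = {c | Nat.testBit M28 c = true} := reach30.orb hU cl31
theorem reach40 : Reach (U.lsub W34) 4 M38 := (Reach.grow hU (Reach.base _ 4) gr39)
theorem orb43 : (orbS (U.lsub W34) 4).ncard = 45 := reach40.ncard hU cl41 sz42
theorem orb43e : orbS (U.lsub W34) 4 = {c | Nat.testBit M38 c = true} := reach40.orb hU cl41
theorem reach47 : Reach (U.lsub W44) 5 0x81120 := (Reach.grow hU (Reach.base _ 5) gr46)
theorem orb50 : (orbS (U.lsub W44) 5).ncard = 4 := reach47.ncard hU cl48 sz49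
theorem orb50e : orbS (U.lsub W44) 5 = {c | Nat.testBit 0x81120 c = true} := reach47.orb hU cl48
theorem lb51 : 4 ∣ Nat.card (U.lsub W44) := dvd_card_orb orb50
theorem lb52 : 180 ∣ Nat.card (U.lsub W34) :=
  dvd_card_step (s := 45) (M := 4) (B := U.lsub W44) (Tab.lsub_le_all (AllP.cons (mem_of_rel (hU.one rel36) (U.mem_letters (by decide))) (AllP.cons (mem_of_rel (hU.one rel37) (U.mem_letters (by decide))) (AllP.nil)))) (hU.fixes fx45) orb43 lb51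
theorem lb53 : 11520 ∣ Nat.card (U.lsub W24) :=
  dvd_card_step (s := 64) (M := 180) (B := U.lsub W34) (Tab.lsub_le_all (AllP.cons (mem_of_rel (hU.one rel26) (U.mem_letters (by decide))) (AllP.cons (mem_of_rel (hU.one rel27) (U.mem_letters (by decide))) (AllP.nil)))) (hU.fixes fx35) orb33 lb52
theorem lb : 979200 ∣ Nat.card (U.lsub W1) :=
  dvd_card_step (s := 85) (M := 11520) (B := U.lsub W24) (Tab.lsub_le_all (AllP.cons (mem_of_rel (hU.one rel16) (U.mem_letters (by decide))) (AllP.cons (mem_of_rel (hU.one rel17) (U.mem_letters (by decide))) (AllP.nil)))) (hU.fixes fx25) orb23 lb53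

end Cfsg.Agent.Spor.S85.L
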