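import Cfsg.Agent.Spor.Chk2
import Cfsg.Agent.Spor.S85.D0

set_option autoImplicit false
set_option maxRecDepth 100000000
set_option Elab.async false
noncomputable section

namespace Cfsg.Agent.Spor.S85.L

def W1 : List (List Nat) := [[1], [3], [5], [7], [9]]

def W2 : List (List Nat) := [[1], [3], [5], [7], [11]]

def um6_0 : Nat := nat_lit 0xc0000000000000ff
def um6_1 : Nat := nat_lit 0x30000000000189940ac
def um6_2 : Nat := nat_lit 0x30000000007000002e8000040ce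
def um6_3 : Nat := nat_lit 0x70095001a00680044
def um6_4 : Nat := nat_lit 0x3000000000104010006060508050200
def um6_5 : Nat := nat_lit 0x30000000000303212113100001100311
def um6_6 : Nat := nat_lit 0x545040115440044451544
def um6_7 : Nat := nat_lit 0x10110100001100011
def um6_8 : Nat := nat_lit 0x3000000000104010000040008050200
def um6_9 : Nat := nat_lit 0x70085001a00000004
def um6_10 : Nat := nat_lit 0x30000000007000002e8000040ce
def um6_11 : Nat := nat_lit 0x30000000000189940ac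
def um6_12 : Nat := nat_lit 0xc0000000000000ff
def un6 : Net := Net.cons 64 um6_0 (Net.cons 32 um6_1 (Net.cons 16 um6_2 (Net.cons 8 um6_3 (Net.cons 4 um6_4 (Net.cons 2 um6_5 (Net.cons 1 um6_6 (Net.cons 2 um6_7 (Net.cons 4 um6_8 (Net.cons 8 um6_9 (Net.cons 16 um6_10 (Net.cons 32 um6_11 (Net.cons 64 um6_12 (Net.nil)))))))))))))

def um7_0 : Nat := nat_lit 0x80020000010100df
def um7_1 : Nat := nat_lit 0x4020000000000c20f360
def um7_2 : Nat := nat_lit 0x400200000816000052c000002608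
def um7_3 : Nat := nat_lit 0x82003200420005004a
def um7_4 : Nat := nat_lit 0x200010109040f030905000609
def um7_5 : Nat := nat_lit 0x10310010122101033101010
def um7_6 : Nat := nat_lit 0x40000000040040001000001050004044
def um7_7 : Nat := nat_lit 0x10010000000001000001001
def um7_8 : Nat := nat_lit 0x101010400010005000004
def um7_9 : Nat := nat_lit 0x80003200420005004a
def um7_10 : Nat := nat_lit 0x400200000802000052c000002600
def um7_11 : Nat := nat_lit 0x4020000000000c20f360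
def um7_12 : Nat := nat_lit 0x80020000010100df
def un7 : Net := Net.cons 64 um7_0 (Net.cons 32 um7_1 (Net.cons 16 um7_2 (Net.cons 8 um7_3 (Net.cons 4 um7_4 (Net.cons 2 um7_5 (Net.cons 1 um7_6 (Net.cons 2 um7_7 (Net.cons 4 um7_8 (Net.cons 8 um7_9 (Net.cons 16 um7_10 (Net.cons 32 um7_11 (Net.cons 64 um7_12 (Net.nil)))))))))))))

def EXU : List (List Nat) := [[], [0], [0], [2], [2], [4], [4], [6], [6], [8], [9], [9, 6, 2, 0, 2, 6, 9, 6, 2, 4, 0, 2, 6, 8], [9, 6, 2, 0, 4, 2, 6, 8, 6, 2, 0, 2, 6, 8], [2, 0, 2, 0, 2, 0, 2, 0, 2, 0], [0, 2, 0, 2, 0, 2, 0, 2, 0, 2], [6, 2, 0, 2, 6, 0, 2, 0, 2, 6, 0, 2, 0, 2, 0], [0, 2, 0, 2, 0, 6, 2, 0, 2, 0, 6, 2, 0, 2, 6]]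
def LU : List Nat := [1, 2, 3, 4, 5, 6, 7, 8, 9, 10, 11, 12, 13, 14, 15, 16]

def XN : List (List Nat) := [[0, 2, 0, 2, 0, 2, 0, 2, 0, 2, 0, 2, 0, 2, 0, 2, 0, 2, 0, 2], [0, 6, 2, 0, 2, 6, 0, 2, 0, 2, 6, 0, 2, 0, 2, 0, 2, 0, 2, 0, 6, 2, 0, 2, 0, 6, 2, 0, 2, 6], [0, 2, 0, 2, 0, 2, 0, 2, 0, 2, 0, 2, 0, 2, 0, 2, 0, 2, 0, 2], [2, 6, 2, 0, 2, 6, 0, 2, 0, 2, 6, 0, 2, 0, 2, 0, 2, 0, 2, 0, 2, 0, 6, 2, 0, 2, 0, 6, 2, 0, 2, 6], [4, 2, 0, 2, 0, 2, 0, 2, 0, 2, 0, 4, 0, 2, 0, 2, 0, 2, 0, 2, 0, 2], [4, 6, 2, 0, 2, 6, 0, 2, 0, 2, 6, 0, 2, 0, 2, 0, 4, 0, 2, 0, 2, 0, 6, 2, 0, 2, 0, 6, 2, 0, 2, 6], [6, 2, 0, 2, 0, 2, 0, 2, 0, 2, 0, 6, 0, 2, 0, 2, 0, 2, 0, 2, 0, 2], [2, 0, 2, 6, 0, 2, 0, 2, 6, 0, 2, 0, 2, 0, 6, 0, 2, 0, 2, 0, 6, 2, 0, 2, 0, 6, 2, 0, 2, 6], [9, 6, 2, 0, 2, 6, 9, 6, 2, 4, 0, 2, 6, 8, 2, 0, 2, 0, 2, 0, 2, 0, 2, 0, 9, 6, 2, 0, 4, 2, 6, 8, 6, 2, 0, 2, 6, 8, 0, 2, 0, 2, 0, 2, 0, 2, 0, 2, 0, 2, 0, 2, 0, 6, 2, 0, 2,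 0, 6, 2, 0, 2, 6], [9, 6, 2, 0, 2, 6, 9, 6, 2, 4, 0, 2, 6, 8, 6, 2, 0, 2, 6, 0, 2, 0, 2, 6, 0, 2, 0, 2, 0, 9, 6, 2, 0, 4, 2, 6, 8, 6, 2, 0, 2, 6, 8, 0, 2, 0, 2, 0, 2, 0, 2, 0, 2], [2, 0, 2, 0, 2, 0, 2, 0, 2, 0, 6, 2, 0, 2, 6, 0, 2, 0, 2, 6, 2, 0, 2, 0, 2, 0, 2, 0, 2, 0, 6, 2, 0, 2, 0, 6, 2, 0, 2, 6]]

def um8_0 : Nat := nat_lit 0x814d0c34006b13cb
def um8_1 : Nat := nat_lit 0x1e0a8600000000a4394244
def um8_2 : Nat := nat_lit 0x70c0000084d0000e10500002910
def um8_3 : Nat := nat_lit 0x8600040008001900600032006a00a1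
def um8_4 : Nat := nat_lit 0x20004020508020200020c0300
def um8_5 : Nat := nat_lit 0x1000120001013111012201201203232
def um8_6 : Nat := nat_lit 0x1400410001405004451400101440011
def um8_7 : Nat := nat_lit 0x1100000001000001201000000100000
def um8_8 : Nat := nat_lit 0x1000800040a000800020b03020002
def um8_9 : Nat := nat_lit 0x80000c0008004800e10032004c0038
def um8_10 : Nat := nat_lit 0x70e000008610000110c00004e10
def um8_11 : Nat := nat_lit 0x160ab200000000d8a9a104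
def um8_12 : Nat := nat_lit 0x814d0c34006e9857
def un8 : Net := Net.cons 64 um8_0 (Net.cons 32 um8_1 (Net.cons 16 um8_2 (Net.cons 8 um8_3 (Net.cons 4 um8_4 (Net.cons 2 um8_5 (Net.cons 1 um8_6 (Net.cons 2 um8_7 (Net.cons 4 um8_8 (Net.cons 8 um8_9 (Net.cons 16 um8_10 (Net.cons 32 um8_11 (Net.cons 64 um8_12 (Net.nil)))))))))))))

def um9_0 : Nat := nat_lit 0x484042c8590b11b3
def um9_1 : Nat := nat_lit 0x4042880000000030523513
def um9_2 : Nat := nat_lit 0xc000000a7e0000bb210000dbb0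
def um9_3 : Nat := nat_lit 0x8000800190042003b00a0009300a2
def um9_4 : Nat := nat_lit 0x8040000040d0c030400010003080e
def um9_5 : Nat := nat_lit 0x200100212002320002100010020
def um9_6 : Nat := nat_lit 0x400400010115441414011144051441
def um9_7 : Nat := nat_lit 0x20100000001010011000202
def um9_8 : Nat := nat_lit 0x400010702000108000000020800
def um9_9 : Nat := nat_lit 0x48000800130042008200a200300080
def um9_10 : Nat := nat_lit 0xc00000026e00001a0200004b02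
def um9_11 : Nat := nat_lit 0x4040024000000000b4531816
def um9_12 : Nat := nat_lit 0x484042c85916ac9b
def un9 : Net := Net.cons 64 um9_0 (Net.cons 32 um9_1 (Net.cons 16 um9_2 (Net.cons 8 um9_3 (Net.cons 4 um9_4 (Net.cons 2 um9_5 (Net.cons 1 um9_6 (Net.cons 2 um9_7 (Net.cons 4 um9_8 (Net.cons 8 um9_9 (Net.cons 16 um9_10 (Net.cons 32 um9_11 (Net.cons 64 um9_12 (Net.nil)))))))))))))

def M18 : Nat := nat_lit 0x1fffffffffffffffffffff

def W24 : List (List Nat) := [[17], [19]]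

def um10_0 : Nat := nat_lit 0x20f2001102480050
def um10_1 : Nat := nat_lit 0x20a808280000000045a76648
def um10_2 : Nat := nat_lit 0x580000d10400005a020000b250
def um10_3 : Nat := nat_lit 0x5000e0005100870008007300a0
def um10_4 : Nat := nat_lit 0x10802010004080c0903000005080a
def um10_5 : Nat := nat_lit 0x102010021201210201100012
def um10_6 : Nat := nat_lit 0x14001414111040111104044111040
def um10_7 : Nat := nat_lit 0x21002000110000001002010011010
def um10_8 : Nat := nat_lit 0x10802030001080801010201010002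
def um10_9 : Nat := nat_lit 0x5000e00051008100ac00220028
def um10_10 : Nat := nat_lit 0x580000d102000059880000b350
def um10_11 : Nat := nat_lit 0x20a808280000000008a3d748
def um10_12 : Nat := nat_lit 0x20f2001102480050
def un10 : Net := Net.cons 64 um10_0 (Net.cons 32 um10_1 (Net.cons 16 um10_2 (Net.cons 8 um10_3 (Net.cons 4 um10_4 (Net.cons 2 um10_5 (Net.cons 1 um10_6 (Net.cons 2 um10_7 (Net.cons 4 um10_8 (Net.cons 8 um10_9 (Net.cons 16 um10_10 (Net.cons 32 um10_11 (Net.cons 64 um10_12 (Net.nil)))))))))))))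

def um11_0 : Nat := nat_lit 0x4201dc9c1e5bcc21
def um11_1 : Nat := nat_lit 0x4040fe0000000000988317f3
def um11_2 : Nat := nat_lit 0xf0100000d4090000179800004990
def um11_3 : Nat := nat_lit 0x100060018009600210044000c0016
def um11_4 : Nat := nat_lit 0x1000008000009010802000900020101
def um11_5 : Nat := nat_lit 0x30100002100202100320102000022130
def um11_6 : Nat := nat_lit 0x1000000400040141040100414005400
def um11_7 : Nat := nat_lit 0x100000010010100010000000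
def um11_8 : Nat := nat_lit 0x2000000080004010a03000001000501
def um11_9 : Nat := nat_lit 0x1000a0008008a000600650024005c
def um11_10 : Nat := nat_lit 0xf0100000880d000033180000409e
def um11_11 : Nat := nat_lit 0x4241ee9000000000382736d2
def um11_12 : Nat := nat_lit 0x4201dc9c1e5b90d9
def un11 : Net := Net.cons 64 um11_0 (Net.cons 32 um11_1 (Net.cons 16 um11_2 (Net.cons 8 um11_3 (Net.cons 4 um11_4 (Net.cons 2 um11_5 (Net.cons 1 um11_6 (Net.cons 2 um11_7 (Net.cons 4 um11_8 (Net.cons 8 um11_9 (Net.cons 16 um11_10 (Net.cons 32 um11_11 (Net.cons 64 um11_12 (Net.nil)))))))))))))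

def M28 : Nat := nat_lit 0x1fcbffeddff2dbf17c7bbe

def W34 : List (List Nat) := [[21], [23]]

def um12_0 : Nat := nat_lit 0x180040000000001a
def um12_1 : Nat := nat_lit 0x182000000000e442c60d
def um12_2 : Nat := nat_lit 0x1800000000010000217100001f18
def um12_3 : Nat := nat_lit 0x200000000400040009004d0094
def um12_4 : Nat := nat_lit 0x108000403030b000b
def um12_5 : Nat := nat_lit 0x1000000001101001033001000022
def um12_6 : Nat := nat_lit 0x1000000000001541555014151514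
def um12_7 : Nat := nat_lit 0x1000000000001001000000000001
def um12_8 : Nat := nat_lit 0x10800040303000800
def um12_9 : Nat := nat_lit 0x20000000040004000900080091
def um12_10 : Nat := nat_lit 0x100002141000000b5
def um12_11 : Nat := nat_lit 0x182000000000e442c60d
def um12_12 : Nat := nat_lit 0x180040000000001a
def un12 : Net := Net.cons 64 um12_0 (Net.cons 32 um12_1 (Net.cons 16 um12_2 (Net.cons 8 um12_3 (Net.cons 4 um12_4 (Net.cons 2 um12_5 (Net.cons 1 um12_6 (Net.cons 2 um12_7 (Net.cons 4 um12_8 (Net.cons 8 um12_9 (Net.cons 16 um12_10 (Net.cons 32 um12_11 (Net.cons 64 um12_12 (Net.nil)))))))))))))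

def um13_0 : Nat := nat_lit 0x8000800000106e
def um13_1 : Nat := nat_lit 0x1008000000000c1411463
def um13_2 : Nat := nat_lit 0x8331000037c0
def um13_3 : Nat := nat_lit 0x110046002c00130001
def um13_4 : Nat := nat_lit 0x100000000010801020f0001020905
def um13_5 : Nat := nat_lit 0x100000000001010210100112230230
def um13_6 : Nat := nat_lit 0x400000000004144000111000054004
def um13_7 : Nat := nat_lit 0x100000000001010000010000000000
def um13_8 : Nat := nat_lit 0x10000000001080000000001020805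
def um13_9 : Nat := nat_lit 0x110042002c00030001
def um13_10 : Nat := nat_lit 0x8331000013c0
def um13_11 : Nat := nat_lit 0x1008000000000c1411421
def um13_12 : Nat := nat_lit 0x8000800000106e
def un13 : Net := Net.cons 64 um13_0 (Net.cons 32 um13_1 (Net.cons 16 um13_2 (Net.cons 8 um13_3 (Net.cons 4 um13_4 (Net.cons 2 um13_5 (Net.cons 1 um13_6 (Net.cons 2 um13_7 (Net.cons 4 um13_8 (Net.cons 8 um13_9 (Net.cons 16 um13_10 (Net.cons 32 um13_11 (Net.cons 64 um13_12 (Net.nil)))))))))))))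

def M38 : Nat := nat_lit 0x7cbff69d3e2d3516c1130

def W44 : List (List Nat) := [[25], [27]]

def U : Tab := ⟨[n0, n1, n2, n3, n4, n5, un6, un7, un8, un9, un10, un11, un12, un13], [⟨0, false, 0, 0, []⟩, ⟨0, false, 0, 0, []⟩, ⟨0, true, 0, 0, []⟩, ⟨1, false, 0, 0, []⟩, ⟨1, true, 0, 0, []⟩, ⟨2, false, 0, 0, []⟩, ⟨2, true, 0, 0, []⟩, ⟨3, false, 0, 0, []⟩, ⟨3, true, 0, 0, []⟩, ⟨4, false, 0, 0, []⟩, ⟨4, true, 0, 0, []⟩, ⟨5, false, 0, 0, []⟩, ⟨5, true, 0, 0, []⟩, ⟨6, false, 0, 0, []⟩, ⟨6, true, 0, 0, []⟩, ⟨7, false, 0, 0, []⟩, ⟨7, true, 0, 0, []⟩, ⟨8, false, 0, 0, []⟩, ⟨8, true, 0, 0, []⟩, ⟨9, false, 0, 0, []⟩, ⟨9, true, 0, 0, []⟩, ⟨10, false, 0, 0, []⟩, ⟨10, true, 0, 0, []⟩, ⟨11, false, 0, 0, []⟩, ⟨11, true, 0, 0, []⟩, ⟨12, false, 0, 0, []⟩, ⟨12, true, 0, 0, []⟩, ⟨13, false, 0, 0, []⟩, ⟨13, true, 0, 0, []⟩]⟩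

end Cfsg.Agent.Spor.S85.L
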